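import Cfsg.Agent.Weyl.Roots

/-!
# Stabilizers of dominant weights and of roots in a Weyl group
-/

set_option autoImplicit false

namespace CfsgLib.Weyl

open Cfsg.Lie

namespace RootGood

variable {D : ChevalleyDatum} {C : Cert D.rank} {M : CoxeterMatrix (Fin D.rank)} {R : RootTable}
  (h : RootGood C M R)
include h

theorem refl_eq_self_of_zero {i : Fin D.rank} {v : Fin D.rank → ℤ} (hv : v i = 0) :
    h.good.rep (M.simple i) v = v := by
  rw [h.good.rep_simple]
  funext k
  show C.reflFun i v k = v k
  simp [Cert.reflFun, hv]

theorem rootPair_nonneg {v : Fin D.rank → ℤ} (hv : ∀ k, 0 ≤ v k) {r : Fin D.nroots}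
    (hr : PosIdx r) : 0 ≤ rootPair v r :=
  Finset.sum_nonneg fun k _ => mul_nonneg (hv k) ((h.root_facts r.2).2.2.2.2.2.1 k hr)

theorem rootPair_nonpos {v : Fin D.rank → ℤ} (hv : ∀ k, 0 ≤ v k) {r : Fin D.nroots}
    (hr : ¬ PosIdx r) : rootPair v r ≤ 0 := by
  have h1 := h.rootPair_nonneg hv ((h.pos_negRoot r).2 hr)
  rw [h.pair_neg] at h1
  omega

/-- The stabilizer of a dominant weight is generated by the simple reflections fixing it. -/
theorem stabilizer_dominant {v : Fin D.rank → ℤ} (hv : ∀ k, 0 ≤ v k) {w : M.Group}
    (hw : h.good.rep w v = v) :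
    w ∈ Subgroup.closure {s : M.Group | ∃ i : Fin D.rank, v i = 0 ∧ s = M.simple i} := by
  induction hn : (h.invSet w).card using Nat.strong_induction_on generalizing w with
  | _ n ih =>
    by_cases hone : w = 1
    · subst hone; exact one_mem _
    obtain ⟨i, hi⟩ : ∃ i, ¬ PosIdx (h.rootPerm w (h.simpleRoot i)) :=
      not_forall.mp fun hall => hone (h.eq_one_of_invSet_empty (h.invSet_eq_empty hall))
    have h0 : v i = 0 := by
      refine le_antisymm ?_ (hv i)
      rw [← h.pair_simple v i, ← h.pair_rep w v (h.simpleRoot i), hw]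
      exact h.rootPair_nonpos hv hi
    have hlt := (h.card_inv_mul_simple w i).2 hi
    have hw' : h.good.rep (w * M.simple i) v = v := by
      rw [map_mul, Module.End.mul_apply, h.refl_eq_self_of_zero h0, hw]
    have hmem := ih _ (by omega) hw' rfl
    have hs : M.simple i * M.simple i = 1 := M.toCoxeterSystem.simple_mul_simple_self i
    rw [show w = w * M.simple i * M.simple i by rw [mul_assoc, hs, mul_one]]
    exact mul_mem hmem (Subgroup.subset_closure ⟨i, h0, rfl⟩)

/-- Equal orbits contain one dominant weight. -/
theorem dominant_unique {v : Fin D.rank → ℤ} (hv : ∀ k, 0 ≤ v k) {w : M.Group}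
    (hw : ∀ k, 0 ≤ h.good.rep w v k) : h.good.rep w v = v := by
  induction hn : (h.invSet w).card using Nat.strong_induction_on generalizing w with
  | _ n ih =>
    by_cases hone : w = 1
    · subst hone; simp
    obtain ⟨i, hi⟩ : ∃ i, ¬ PosIdx (h.rootPerm w (h.simpleRoot i)) :=
      not_forall.mp fun hall => hone (h.eq_one_of_invSet_empty (h.invSet_eq_empty hall))
    have h0 : v i = 0 := by
      refine le_antisymm ?_ (hv i)
      rw [← h.pair_simple v i, ← h.pair_rep w v (h.simpleRoot i)]
      exact h.rootPair_nonpos hw hi
    have hlt := (h.card_inv_mul_simple w i).2 hi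
    have e : h.good.rep (w * M.simple i) v = h.good.rep w v := by
      rw [map_mul, Module.End.mul_apply, h.refl_eq_self_of_zero h0]
    have hmem := ih _ (by omega) (w := w * M.simple i) (by rw [e]; exact hw) rfl
    rwa [e] at hmem

end RootGood

/-- The weight coordinates of a root. -/
def rootWeight (D : ChevalleyDatum) (r : ℕ) : Fin D.rank → ℤ := fun k => D.cartan k r

/-- The table check of the equivariance of `rootWeight`. -/
def weightOk {D : ChevalleyDatum} (C : Cert D.rank) : Bool :=
  (List.range D.nroots).all fun r => (List.finRange D.rank).all fun i =>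
    (List.finRange D.rank).all fun k =>
      decide (C.reflFun i (rootWeight D r) k = rootWeight D (D.reflectRoot i r) k)

namespace RootGood

variable {D : ChevalleyDatum} {C : Cert D.rank} {M : CoxeterMatrix (Fin D.rank)} {R : RootTable}
  (h : RootGood C M R)
include h

theorem rep_rootWeight (hok : weightOk C = true) (w : M.Group) (r : Fin D.nroots) :
    h.good.rep w (rootWeight D r) = rootWeight D (h.rootPerm w r) := by
  induction w using M.toCoxeterSystem.simple_induction_left generalizing r with
  | one => simp
  | mul_simple_left w i ih => ?_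
  simp only [map_mul, Module.End.mul_apply, Equiv.Perm.mul_apply,
    CoxeterMatrix.toCoxeterSystem_simple, ih, h.good.rep_simple, h.rootPerm_simple_apply]
  funext k
  simp only [weightOk, List.all_eq_true, List.mem_range, List.mem_finRange, forall_const,
    decide_eq_true_eq] at hok
  exact hok _ (h.rootPerm w r).2 i k

/-- The stabilizer of a dominant root is generated by the simple reflections orthogonal to it. -/
theorem stabilizer_root (hok : weightOk C = true) {r : Fin D.nroots}
    (hdom : ∀ k : Fin D.rank, 0 ≤ D.cartan k r) {w : M.Group} (hw : h.rootPerm w r = r) :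
    w ∈ Subgroup.closure {s : M.Group | ∃ i : Fin D.rank, D.cartan i r = 0 ∧ s = M.simple i} :=
  h.stabilizer_dominant (v := rootWeight D r) hdom (by rw [h.rep_rootWeight hok, hw])

end RootGood

end CfsgLib.Weyl
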